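import Groth.Agent.H23.CocycleMod
import Groth.Agent.InvX.Tensor
import Groth.Agent.InvUfdLib.Semilocal
import Groth.Prelude.Def_PicGrp

/-!
The Picard group as the cokernel of the global sections of an acyclic resolution of the units.
-/

universe w u
set_option autoImplicit false
set_option backward.isDefEq.respectTransparency false
set_option backward.isDefEq.respectTransparency.types false
open CategoryTheory AlgebraicGeometry TopologicalSpace Opposite

namespace Groth.Agent.GrLib8.PicH1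

open Groth.Agent.AModX Groth.Agent.InvX

variable {X : Scheme.{u}}

/-- Restriction in a presheaf on opens. -/
abbrev rI (I : (X.Opens)ᵒᵖ ⥤ AddCommGrpCat.{w}) {W V : X.Opens} (h : W ≤ V) : I.obj (op V) →+ I.obj (op W) :=
  (I.map (homOfLE h).op).hom

theorem rI_rI (I : (X.Opens)ᵒᵖ ⥤ AddCommGrpCat.{w}) {W V T : X.Opens} (h : W ≤ V) (h' : V ≤ T)
    (x : I.obj (op T)) : rI I h (rI I h' x) = rI I (h.trans h') x :=
  (ConcreteCategory.congr_hom (I.map_comp (homOfLE h').op (homOfLE h).op) x).symm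

theorem rI_self (I : (X.Opens)ᵒᵖ ⥤ AddCommGrpCat.{w}) {W : X.Opens} (h : W ≤ W) (x : I.obj (op W)) :
    rI I h x = x := by
  show (I.map (homOfLE h).op).hom x = x
  rw [show (homOfLE h).op = 𝟙 (op W) from Subsingleton.elim _ _, I.map_id]
  rfl

/-- Restriction of units. -/
noncomputable abbrev rU {W V : X.Opens} (h : W ≤ V) : Γ(X, V)ˣ →* Γ(X, W)ˣ := Units.map (resR h).toMonoidHom

theorem rU_rU {W V T : X.Opens} (h : W ≤ V) (h' : V ≤ T) (a : Γ(X, T)ˣ) : rU h (rU h' a) = rU (h.trans h') a :=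
  Units.ext (resR_resR _ _ _)

theorem rU_self {W : X.Opens} (h : W ≤ W) (a : Γ(X, W)ˣ) : rU h a = a := Units.ext (resR_self _)

theorem coe_rU {W V : X.Opens} (h : W ≤ V) (a : Γ(X, V)ˣ) : (rU h a : Γ(X, W)) = resR h (a : Γ(X, V)) := rfl

/-- An exact sequence `0 → 𝒪^× → I → Q` on Zariski opens, surjective locally, with `I` acyclic. -/
structure Pres (X : Scheme.{u}) where
  /-- The middle term. -/
  I : (X.Opens)ᵒᵖ ⥤ AddCommGrpCat.{w}
  /-- The last term. -/
  Q : (X.Opens)ᵒᵖ ⥤ AddCommGrpCat.{w}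
  /-- The inclusion of the units. -/
  f : ∀ V : X.Opens, Additive Γ(X, V)ˣ →+ I.obj (op V)
  f_res : ∀ {W V : X.Opens} (h : W ≤ V) (a : Γ(X, V)ˣ),
    rI I h (f V (Additive.ofMul a)) = f W (Additive.ofMul (rU h a))
  /-- The projection. -/
  g : I ⟶ Q
  inj : ∀ V, Function.Injective (f V)
  exact : ∀ (V : X.Opens) (z : I.obj (op V)), (g.app (op V)).hom z = 0 ↔ ∃ a, f V a = z
  lift : ∀ (q : Q.obj (op ⊤)) (x : X),
    ∃ (V : X.Opens) (_ : x ∈ V) (s : I.obj (op V)), (g.app (op V)).hom s = rI Q le_top q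
  glueI : ∀ (ι : Type u) (V : ι → X.Opens), (∀ x, ∃ a, x ∈ V a) → ∀ s : ∀ a, I.obj (op (V a)),
    (∀ a b, rI I (inf_le_left : V a ⊓ V b ≤ V a) (s a) = rI I (inf_le_right : V a ⊓ V b ≤ V b) (s b)) →
      ∃ t : I.obj (op ⊤), ∀ a, rI I le_top t = s a
  glueQ : ∀ (ι : Type u) (V : ι → X.Opens), (∀ x, ∃ a, x ∈ V a) → ∀ s : ∀ a, Q.obj (op (V a)),
    (∀ a b, rI Q (inf_le_left : V a ⊓ V b ≤ V a) (s a) = rI Q (inf_le_right : V a ⊓ V b ≤ V b) (s b)) →
      ∃ t : Q.obj (op ⊤), ∀ a, rI Q le_top t = s a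
  extQ : ∀ (ι : Type u) (V : ι → X.Opens), (∀ x, ∃ a, x ∈ V a) → ∀ s t : Q.obj (op ⊤),
    (∀ a, rI Q (le_top : V a ≤ ⊤) s = rI Q le_top t) → s = t
  split : ∀ (ι : Type u) (V : ι → X.Opens), (∀ x, ∃ a, x ∈ V a) → ∀ (d : ∀ a b, Γ(X, V a ⊓ V b)ˣ),
    (∀ a b l (W : X.Opens) (ha : W ≤ V a) (hb : W ≤ V b) (hl : W ≤ V l),
      rU (le_inf ha hl) (d a l) = rU (le_inf hb hl) (d b l) * rU (le_inf ha hb) (d a b)) →
    ∃ r : ∀ a, I.obj (op (V a)), ∀ a b,
      rI I inf_le_left (r a) - rI I inf_le_right (r b) = f _ (Additive.ofMul (d a b))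

variable (P : Pres.{w} X)

theorem g_res {W V : X.Opens} (h : W ≤ V) (s : P.I.obj (op V)) :
    (P.g.app (op W)).hom (rI P.I h s) = rI P.Q h ((P.g.app (op V)).hom s) :=
  ConcreteCategory.congr_hom (P.g.naturality (homOfLE h).op) s

theorem g_f (V : X.Opens) (a : Additive Γ(X, V)ˣ) : (P.g.app (op V)).hom (P.f V a) = 0 :=
  (P.exact V _).2 ⟨a, rfl⟩

/-- `L` is a module attached to the section `q`. -/
def Rel (q : P.Q.obj (op ⊤)) (L : X.Modules) : Prop :=
  ∃ (ι : Type u) (V : ι → X.Opens) (s : ∀ a, P.I.obj (op (V a))) (e : ∀ a, Γ(L, V a)),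
    (∀ x, ∃ a, x ∈ V a) ∧ (∀ a, IsFrame (e a)) ∧ (∀ a, (P.g.app _).hom (s a) = rI P.Q le_top q) ∧
    ∀ (a b : ι) (W : X.Opens) (ha : W ≤ V a) (hb : W ≤ V b) (u : Γ(X, W)ˣ),
      res L ha (e a) = (u : Γ(X, W)) • res L hb (e b) →
        P.f W (Additive.ofMul u) = rI P.I ha (s a) - rI P.I hb (s b)

/-- Two frames differ by a unit. -/
theorem exists_unit {M : X.Modules} {U : X.Opens} {e e' : Γ(M, U)} (he : IsFrame e) (he' : IsFrame e') :
    ∃ a : Γ(X, U)ˣ, e' = (a : Γ(X, U)) • e := by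
  obtain ⟨a, ha⟩ := he.exists_coord le_rfl e'
  obtain ⟨b, hb⟩ := he'.exists_coord le_rfl e
  rw [res_self] at ha hb
  have h1 : b * a = 1 := he.coord_unique le_rfl (by
    rw [res_self, one_smul, mul_smul, ← ha, ← hb])
  exact ⟨⟨a, b, by rw [mul_comm, h1], h1⟩, ha⟩

/-- Modules with frames having the same transitions are isomorphic. -/
theorem iso_of_transitions {M N : X.Modules} {ι : Type u} (U : ι → X.Opens) (hcov : ∀ x, ∃ a, x ∈ U a)
    (e : ∀ a, Γ(M, U a)) (n : ∀ a, Γ(N, U a)) (he : ∀ a, IsFrame (e a)) (hn : ∀ a, IsFrame (n a))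
    (hc : ∀ (a b : ι) (W : X.Opens) (ha : W ≤ U a) (hb : W ≤ U b) (g : Γ(X, W)),
      res M hb (e b) = g • res M ha (e a) → res N hb (n b) = g • res N ha (n a)) :
    Nonempty (M ≅ N) := by
  have hc' : ∀ (a b : ι) (W : X.Opens) (ha : W ≤ U a) (hb : W ≤ U b) (g : Γ(X, W)),
      res N hb (n b) = g • res N ha (n a) → res M hb (e b) = g • res M ha (e a) := by
    intro a b W ha hb g hg
    obtain ⟨k, hk⟩ := (he a).exists_coord ha (res M hb (e b))
    rw [hk, (hn a).coord_unique ha ((hg.symm.trans (hc a b W ha hb k hk)))]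
  exact ⟨⟨ofFrames hcov he hc, ofFrames hcov hn hc',
    hom_ext_of_frames U hcov e he fun a => by
      show (ofFrames hcov hn hc').app _ ((ofFrames hcov he hc).app _ (e a)) = e a
      rw [ofFrames_app, ofFrames_app],
    hom_ext_of_frames U hcov n hn fun a => by
      show (ofFrames hcov he hc).app _ ((ofFrames hcov hn hc').app _ (n a)) = n a
      rw [ofFrames_app, ofFrames_app]⟩⟩

theorem exists_rel_mod (q : P.Q.obj (op ⊤)) : ∃ L : X.Modules, PicF.IsInvertible L ∧ Rel P q L := by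
  choose V hxV s hs using P.lift q
  have hd : ∀ a b : X, ∃ u : Γ(X, V a ⊓ V b)ˣ,
      P.f _ (Additive.ofMul u) = rI P.I inf_le_left (s a) - rI P.I inf_le_right (s b) := fun a b => by
    obtain ⟨c, hc⟩ := (P.exact _ (rI P.I (inf_le_left : V a ⊓ V b ≤ V a) (s a) -
      rI P.I (inf_le_right : V a ⊓ V b ≤ V b) (s b))).1 (by
      rw [map_sub, g_res, g_res, hs, hs, rI_rI, rI_rI, sub_self])
    exact ⟨Additive.toMul c, hc⟩
  choose c hc using hd
  have hcres : ∀ a b (W : X.Opens) (ha : W ≤ V a) (hb : W ≤ V b),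
      P.f W (Additive.ofMul (rU (le_inf ha hb) (c a b))) = rI P.I ha (s a) - rI P.I hb (s b) := by
    intro a b W ha hb
    rw [← P.f_res, hc, map_sub, rI_rI, rI_rI]
  let t : H23.CocycleMod.Cocycle V :=
    { g := c
      trans := fun i j l W hi hj hl => by
        rw [← coe_rU, ← coe_rU, ← coe_rU, ← Units.val_mul]
        refine congrArg Units.val (Additive.ofMul.injective (P.inj W ?_))
        rw [ofMul_mul, map_add, hcres i l W hi hl, hcres j l W hj hl, hcres i j W hi hj]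
        abel }
  have hV : iSup V = ⊤ := top_le_iff.1 fun x _ => Opens.mem_iSup.2 ⟨x, hxV x⟩
  refine ⟨_, H23.CocycleMod.isInvertible t hV, X, V, s, fun a => H23.CocycleMod.frame t a,
    fun x => ⟨x, hxV x⟩, fun a => H23.CocycleMod.isFrame_frame t a, hs, fun a b W ha hb u hu => ?_⟩
  have h1 := congrArg (res (H23.CocycleMod.mod t) (le_inf ha hb)) (H23.CocycleMod.res_frame t a b)
  rw [res_smul, res_res, res_res] at h1
  rw [← hcres a b W ha hb]
  congr 2
  exact Units.ext ((H23.CocycleMod.isFrame_frame t b).coord_unique hb (hu.symm.trans h1))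

theorem rel_iso {q : P.Q.obj (op ⊤)} {L L' : X.Modules} (h : Rel P q L) (h' : Rel P q L') :
    Nonempty (L ≅ L') := by
  obtain ⟨ι, V, s, e, hV, he, hs, ht⟩ := h
  obtain ⟨ι', V', s', e', hV', he', hs', ht'⟩ := h'
  let U : ι × ι' → X.Opens := fun p => V p.1 ⊓ V' p.2
  have hw : ∀ p : ι × ι', ∃ w : Γ(X, U p)ˣ,
      P.f (U p) (Additive.ofMul w) = rI P.I inf_le_left (s p.1) - rI P.I inf_le_right (s' p.2) := fun p => by
    obtain ⟨c, hc⟩ := (P.exact _ (rI P.I (inf_le_left : U p ≤ V p.1) (s p.1) -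
      rI P.I (inf_le_right : U p ≤ V' p.2) (s' p.2))).1 (by
      rw [map_sub, g_res, g_res, hs, hs', rI_rI, rI_rI, sub_self])
    exact ⟨Additive.toMul c, hc⟩
  choose w hw using hw
  refine iso_of_transitions U (fun x => ?_) (fun p => res L inf_le_left (e p.1))
    (fun p => (w p : Γ(X, U p)) • res L' inf_le_right (e' p.2)) (fun p => (he _).res _)
    (fun p => ((he' _).res _).isUnit_smul (w p).isUnit) ?_
  · obtain ⟨a, ha⟩ := hV x
    obtain ⟨a', ha'⟩ := hV' x
    exact ⟨(a, a'), ha, ha'⟩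
  intro a b W ha hb k hk
  rw [res_res, res_res] at hk
  have h1 := ha.trans (inf_le_left : U a ≤ V a.1)
  have h2 := hb.trans (inf_le_left : U b ≤ V b.1)
  have h1' := ha.trans (inf_le_right : U a ≤ V' a.2)
  have h2' := hb.trans (inf_le_right : U b ≤ V' b.2)
  obtain ⟨u, hu⟩ := exists_unit ((he a.1).res h1) ((he b.1).res h2)
  have hku : k = (u : Γ(X, W)) := (he a.1).coord_unique h1 (hk.symm.trans hu)
  obtain ⟨v, hv⟩ := exists_unit ((he' a.2).res h1') ((he' b.2).res h2')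
  have hwb : rU hb (w b) * v = u * rU ha (w a) := by
    refine Additive.ofMul.injective (P.inj W ?_)
    rw [ofMul_mul, ofMul_mul, map_add, map_add, ← P.f_res hb, ← P.f_res ha, hw b, hw a,
      ht b.1 a.1 W h2 h1 u hu, ht' b.2 a.2 W h2' h1' v hv, map_sub, map_sub, rI_rI, rI_rI, rI_rI, rI_rI]
    abel
  rw [res_smul, res_smul, res_res, res_res, hku, hv, ← mul_smul, ← mul_smul, ← coe_rU, ← coe_rU,
    ← Units.val_mul, ← Units.val_mul, hwb]

theorem rel_add {q q' : P.Q.obj (op ⊤)} {L L' : X.Modules} (h : Rel P q L) (h' : Rel P q' L') :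
    Rel P (q + q') (CohB1.tensorMod L L') := by
  obtain ⟨ι, V, s, e, hV, he, hs, ht⟩ := h
  obtain ⟨ι', V', s', e', hV', he', hs', ht'⟩ := h'
  let U : ι × ι' → X.Opens := fun p => V p.1 ⊓ V' p.2
  refine ⟨ι × ι', U, fun p => rI P.I inf_le_left (s p.1) + rI P.I inf_le_right (s' p.2),
    fun p => tmul (res L inf_le_left (e p.1)) (res L' inf_le_right (e' p.2)), fun x => ?_,
    fun p => isFrame_tmul ((he _).res _) ((he' _).res _), fun p => ?_, fun a b W ha hb k hk => ?_⟩
  · obtain ⟨a, ha⟩ := hV x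
    obtain ⟨a', ha'⟩ := hV' x
    exact ⟨(a, a'), ha, ha'⟩
  · rw [map_add, g_res, g_res, hs, hs', rI_rI, rI_rI, ← map_add]
  have h1 := ha.trans (inf_le_left : U a ≤ V a.1)
  have h2 := hb.trans (inf_le_left : U b ≤ V b.1)
  have h1' := ha.trans (inf_le_right : U a ≤ V' a.2)
  have h2' := hb.trans (inf_le_right : U b ≤ V' b.2)
  obtain ⟨u, hu⟩ := exists_unit ((he b.1).res h2) ((he a.1).res h1)
  obtain ⟨v, hv⟩ := exists_unit ((he' b.2).res h2') ((he' a.2).res h1')
  rw [res_tmul, res_tmul, res_res, res_res, res_res, res_res, hu, hv, tmul_smul_left, tmul_smul_right,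
    ← mul_smul] at hk
  have hkuv : k = u * v := Units.ext ((isFrame_tmul ((he b.1).res h2) ((he' b.2).res h2')).coord_unique le_rfl
    (by rw [res_self, Units.val_mul]; exact hk.symm))
  rw [hkuv, ofMul_mul, map_add, ht a.1 b.1 W h1 h2 u hu, ht' a.2 b.2 W h1' h2' v hv, map_add, map_add,
    rI_rI, rI_rI, rI_rI, rI_rI]
  abel

theorem isFrame_one : IsFrame (M := Coh.structureModule X) (U := ⊤) (1 : Γ(X, ⊤)) := by
  intro V h
  have e : (fun r : Γ(X, V) => r • res (Coh.structureModule X) h (1 : Γ(X, ⊤))) = fun r => r := funext fun r => by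
    show r * resR h (1 : Γ(X, ⊤)) = r
    rw [map_one, mul_one]
  exact (congrArg Function.Bijective e).mpr Function.bijective_id

theorem rel_image (i : P.I.obj (op ⊤)) : Rel P ((P.g.app (op ⊤)).hom i) (Coh.structureModule X) := by
  refine ⟨PUnit, fun _ => ⊤, fun _ => i, fun _ => (1 : Γ(X, ⊤)), fun x => ⟨⟨⟩, trivial⟩, fun _ => isFrame_one,
    fun _ => (rI_self _ _ _).symm, fun a b W ha hb u hu => ?_⟩
  have h1 : (1 : Γ(X, W)) = (u : Γ(X, W)) := (isFrame_one (X := X)).coord_unique ha (by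
    rw [one_smul]
    exact hu)
  rw [show u = 1 from Units.ext h1.symm, ofMul_one, map_zero, sub_self]

theorem mem_range_of_rel {q : P.Q.obj (op ⊤)} {L : X.Modules} (h : Rel P q L) (φ : L ≅ Coh.structureModule X) :
    ∃ i, (P.g.app (op ⊤)).hom i = q := by
  obtain ⟨ι, V, s, e, hV, he, hs, ht⟩ := h
  let G : Γ(L, ⊤) := φ.inv.app ⊤ (1 : Γ(X, ⊤))
  have hG : IsFrame G := fun W h => by
    have hb : Function.Bijective (φ.inv.app W) :=
      (ConcreteCategory.isIso_iff_bijective _).1 (Scheme.Modules.Hom.isIso_iff_isIso_app.1 inferInstance W)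
    have e' : (fun r : Γ(X, W) => r • res L h G) =
        φ.inv.app W ∘ fun r : Γ(X, W) => r • res (Coh.structureModule X) h (1 : Γ(X, ⊤)) := funext fun r => by
      rw [Function.comp_apply, Scheme.Modules.Hom.app_smul, app_res]
    exact (congrArg Function.Bijective e').mpr (hb.comp (isFrame_one W h))
  choose w hw using fun a => exists_unit (hG.res (le_top : V a ≤ ⊤)) (he a)
  obtain ⟨i, hi⟩ := P.glueI ι V hV (fun a => s a - P.f _ (Additive.ofMul (w a))) fun a b => by
    let W := V a ⊓ V b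
    have hu : res L (inf_le_left : W ≤ V a) (e a) =
        ((rU inf_le_left (w a) * (rU inf_le_right (w b))⁻¹ : Γ(X, W)ˣ) : Γ(X, W)) •
          res L (inf_le_right : W ≤ V b) (e b) := by
      rw [hw a, hw b, res_smul, res_smul, res_res, res_res, ← mul_smul, ← coe_rU, ← coe_rU, ← Units.val_mul,
        inv_mul_cancel_right]
    have h1 := ht a b W inf_le_left inf_le_right _ hu
    rw [ofMul_mul, ofMul_inv, map_add, map_neg] at h1
    rw [map_sub, map_sub, P.f_res, P.f_res]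
    rw [← sub_eq_zero]
    rw [eq_comm, ← sub_eq_zero] at h1
    rw [← h1]
    abel
  refine ⟨i, P.extQ ι V hV _ _ fun a => ?_⟩
  rw [← g_res, hi, map_sub, g_f, sub_zero, hs]

theorem exists_rel (L : X.Modules) (hL : PicF.IsInvertible L) : ∃ q, Rel P q L := by
  choose V hxV e he using InvX.exists_frame hL
  choose d hd using fun a b : X => exists_unit ((he b).res (inf_le_right : V a ⊓ V b ≤ V b))
    ((he a).res (inf_le_left : V a ⊓ V b ≤ V a))
  have key : ∀ a b (W : X.Opens) (ha : W ≤ V a) (hb : W ≤ V b),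
      res L ha (e a) = (rU (le_inf ha hb) (d a b) : Γ(X, W)) • res L hb (e b) := fun a b W ha hb => by
    have := congrArg (res L (le_inf ha hb)) (hd a b)
    rw [res_smul, res_res, res_res] at this
    exact this
  obtain ⟨r, hr⟩ := P.split X V (fun x => ⟨x, hxV x⟩) d fun a b l W ha hb hl => Units.ext <| (he l).coord_unique hl (by
    rw [← key a l W ha hl, mul_comm, Units.val_mul, mul_smul, ← key b l W hb hl, ← key a b W ha hb])
  obtain ⟨q, hq⟩ := P.glueQ X V (fun x => ⟨x, hxV x⟩) (fun a => (P.g.app _).hom (r a)) fun a b => by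
    rw [← g_res, ← g_res, ← sub_eq_zero, ← map_sub, hr, g_f]
  refine ⟨q, X, V, r, e, fun x => ⟨x, hxV x⟩, he, fun a => (hq a).symm, fun a b W ha hb u hu => ?_⟩
  rw [show u = rU (le_inf ha hb) (d a b) from Units.ext ((he b).coord_unique hb (hu.symm.trans (key a b W ha hb))),
    ← P.f_res, ← hr, map_sub, rI_rI, rI_rI]

/-- The Picard group is the cokernel of `Γ(I) → Γ(Q)`. -/
theorem exists_pic_hom [PicGrp.Law X] :
    ∃ φ : P.Q.obj (op ⊤) →+ Additive (PicLoc.PicSet X), Function.Surjective φ ∧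
      (∀ q, φ q = 0 ↔ ∃ i, (P.g.app (op ⊤)).hom i = q) ∧
      ∀ q (L : X.Modules) (hL : PicF.IsInvertible L), Rel P q L → φ q = Additive.ofMul (PicGrp.cls L hL) := by
  choose M hM hR using exists_rel_mod P
  have hval : ∀ q (L : X.Modules) (hL : PicF.IsInvertible L), Rel P q L →
      PicGrp.cls (M q) (hM q) = PicGrp.cls L hL :=
    fun q L hL h => (PicGrp.cls_eq_cls_iff _ _).2 (rel_iso P (hR q) h)
  have hmul : ∀ q q', PicGrp.cls (M (q + q')) (hM _) = PicGrp.cls (M q) (hM q) * PicGrp.cls (M q') (hM q') := by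
    intro q q'
    refine Subtype.ext ((?_ : _ = _).trans (PicGrp.cls_mul_cls_val (hM q) (hM q')).symm)
    exact (PicGrp.cl_eq_cl_iff _ _).2 (rel_iso P (hR _) (rel_add P (hR q) (hR q')))
  let φ : P.Q.obj (op ⊤) →+ Additive (PicLoc.PicSet X) :=
    AddMonoidHom.mk' (fun q => Additive.ofMul (PicGrp.cls (M q) (hM q))) fun q q' => congrArg Additive.ofMul (hmul q q')
  refine ⟨φ, fun c => ?_, fun q => ?_, fun q L hL h => congrArg Additive.ofMul (hval q L hL h)⟩
  · obtain ⟨L, hL, hc⟩ := PicGrp.exists_eq_cls (Additive.toMul c)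
    obtain ⟨q, hq⟩ := exists_rel P L hL
    exact ⟨q, congrArg Additive.ofMul ((hval q L hL hq).trans hc.symm)⟩
  · constructor
    · intro h
      obtain ⟨e⟩ := (PicGrp.cls_eq_one_iff _).1 (Additive.ofMul.injective h :)
      exact mem_range_of_rel P (hR q) e
    · rintro ⟨i, rfl⟩
      exact congrArg Additive.ofMul
        ((hval _ _ (PicLoc.isInvertible_structureModule X) (rel_image P i)).trans PicGrp.cls_structureModule_eq_one)

end Groth.Agent.GrLib8.PicH1
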