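import Groth.Agent.GrLib8.PicH1.Thicken

/-!
Pullback of invertible modules in terms of sections of the last terms.
-/

universe u
set_option autoImplicit false
set_option backward.isDefEq.respectTransparency false
set_option backward.isDefEq.respectTransparency.types false
open CategoryTheory CategoryTheory.Limits AlgebraicGeometry TopologicalSpace Opposite

namespace Groth.Agent.GrLib8.PicH1

open Groth.Agent.AModX Groth.Agent.InvX

variable {X Y : Scheme.{u}} (i : Y ⟶ X)

theorem pullElt_res {M : X.Modules} {U V : X.Opens} (h : V ≤ U) (x : Γ(M, U)) :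
    pullElt i (res M h x) = res ((Scheme.Modules.pullback i).obj M) (i.preimage_mono h) (pullElt i x) :=
  app_res ((Scheme.Modules.pullbackPushforwardAdjunction i).unit.app M) h x

theorem pullElt_smul {M : X.Modules} {U : X.Opens} (c : Γ(X, U)) (x : Γ(M, U)) :
    pullElt i (c • x) = i.app U c • pullElt i x :=
  Scheme.Modules.Hom.app_smul ((Scheme.Modules.pullbackPushforwardAdjunction i).unit.app M) c x

variable [IsClosedImmersion i] (hi : Function.Surjective i)
  {E' : ShortComplex (CohTop.Ab X.toTopCat)} (hE' : E'.ShortExact) (e' : UnitsSh.unitsAb X ≅ E'.X₁)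
  {E : ShortComplex (CohTop.Ab X.toTopCat)} (hE : E.ShortExact)
  (e : (CohTop.push i.base).obj (UnitsSh.unitsAb Y) ≅ E.X₁) [Injective E'.X₂] [Injective E.X₂]
  (τ : E' ⟶ E) (hτ : e'.hom ≫ τ.τ₁ = UnitsSh.comap i ≫ e.hom)

include hτ in
theorem f0_comap (M : X.Opens) (w : Γ(X, M)ˣ) :
    f0 i E e M (Additive.ofMul (Units.map (i.app M).hom.toMonoidHom w)) =
      (τ.τ₂.hom.app (op M)).hom (((e'.hom ≫ E'.f).hom.app (op M)).hom (toUnitsAb M (Additive.ofMul w))) := by
  have h : (e'.hom ≫ E'.f) ≫ τ.τ₂ = UnitsSh.comap i ≫ e.hom ≫ E.f := by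
    rw [Category.assoc, ← τ.comm₁₂, reassoc_of% hτ]
  exact (congrArg (fun φ : UnitsSh.unitsAb X ⟶ E.X₂ => (φ.hom.app (op M)).hom (toUnitsAb M (Additive.ofMul w))) h).symm

include hτ in
theorem rel_pull {q : E'.X₃.obj.obj (op ⊤)} {M : X.Modules} (h : Rel (zarPres E' hE' e') q M) :
    Rel (thickPres i hi E hE e) (rI E.X₃.obj (le_top : jO i hi ⊤ ≤ ⊤) ((τ.τ₃.hom.app (op ⊤)).hom q))
      ((Scheme.Modules.pullback i).obj M) := by
  obtain ⟨ι, V, s, f, hV, hf, hs, ht⟩ := h
  refine ⟨ι, fun a => i ⁻¹ᵁ V a, fun a => rI E.X₂.obj (jO_preimage_le i hi (V a)) ((τ.τ₂.hom.app (op (V a))).hom (s a)),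
    fun a => pullElt i (f a), fun y => hV (i y), fun a => isFrame_pullElt i (hf a), fun a => ?_, ?_⟩
  · show (E.g.hom.app _).hom (rI E.X₂.obj _ ((τ.τ₂.hom.app _).hom (s a))) =
      rI E.X₃.obj (jO_mono i hi le_top) (rI E.X₃.obj le_top ((τ.τ₃.hom.app (op ⊤)).hom q))
    rw [rI_rI]
    refine (ConcreteCategory.congr_hom (E.g.hom.naturality (homOfLE (jO_preimage_le i hi (V a))).op) _).trans ?_
    show rI E.X₃.obj _ (((τ.τ₂ ≫ E.g).hom.app (op (V a))).hom (s a)) = _
    rw [τ.comm₂₃]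
    refine (congrArg (fun z => rI E.X₃.obj (jO_preimage_le i hi (V a)) ((τ.τ₃.hom.app (op (V a))).hom z)) (hs a)).trans ?_
    refine (congrArg (rI E.X₃.obj (jO_preimage_le i hi (V a)))
      (ConcreteCategory.congr_hom (τ.τ₃.hom.naturality (homOfLE (le_top : V a ≤ ⊤)).op) q)).trans ?_
    exact rI_rI E.X₃.obj _ _ _
  intro a b W ha hb u hu
  let N := V a ⊓ V b
  have hWN : W ≤ i ⁻¹ᵁ N := fun y hy => ⟨ha hy, hb hy⟩
  obtain ⟨w, hw⟩ := exists_unit ((hf b).res (inf_le_right : N ≤ V b)) ((hf a).res (inf_le_left : N ≤ V a))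
  have h1 := congrArg (fun x => res ((Scheme.Modules.pullback i).obj M) hWN (pullElt i x)) hw
  have h1' : res ((Scheme.Modules.pullback i).obj M) ha (pullElt i (f a)) =
      (rU hWN (Units.map (i.app N).hom.toMonoidHom w) : Γ(Y, W)) •
        res ((Scheme.Modules.pullback i).obj M) hb (pullElt i (f b)) := by
    refine ((res_res _ _ _).symm.trans (congrArg (res _ hWN) (pullElt_res i inf_le_left (f a)).symm)).trans
      (h1.trans ?_)
    refine ((congrArg (res _ hWN) (pullElt_smul i _ _)).trans (res_smul _ _ _)).trans ?_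
    exact congrArg (_ • ·) ((congrArg (res _ hWN) (pullElt_res i inf_le_right (f b))).trans (res_res _ _ _))
  have huw : u = rU hWN (Units.map (i.app N).hom.toMonoidHom w) :=
    Units.ext (((isFrame_pullElt i (hf b))).coord_unique hb (hu.symm.trans h1'))
  have hj : jO i hi W ≤ N := (jO_mono i hi hWN).trans (jO_preimage_le i hi N)
  show fY i hi E e W (Additive.ofMul u) = rI E.X₂.obj (jO_mono i hi ha) (rI E.X₂.obj _ _) -
    rI E.X₂.obj (jO_mono i hi hb) (rI E.X₂.obj _ _)
  rw [fY_eq, huw, rU_rU, ← f0_res i E e hj, f0_comap i e' e τ hτ]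
  have h2 := ht a b N inf_le_left inf_le_right w hw
  refine (congrArg (fun z => rI E.X₂.obj hj ((τ.τ₂.hom.app (op N)).hom z)) h2).trans ?_
  rw [rI_rI, rI_rI]
  refine (congrArg (rI E.X₂.obj hj) (map_sub (τ.τ₂.hom.app (op N)).hom _ _)).trans ((map_sub _ _ _).trans ?_)
  refine congr_arg₂ (· - ·) ?_ ?_
  · exact (congrArg (rI E.X₂.obj hj)
      (ConcreteCategory.congr_hom (τ.τ₂.hom.naturality (homOfLE (inf_le_left : N ≤ V a)).op) (s a))).trans
      (rI_rI E.X₂.obj _ _ _)
  · exact (congrArg (rI E.X₂.obj hj)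
      (ConcreteCategory.congr_hom (τ.τ₂.hom.naturality (homOfLE (inf_le_right : N ≤ V b)).op) (s b))).trans
      (rI_rI E.X₂.obj _ _ _)

end Groth.Agent.GrLib8.PicH1
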