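import Groth.Agent.OmegaLib.IdealMod
import Groth.Agent.BigSiteLib.FppfDesc.LocExact
import Groth.Agent.SiteBase.AbSecExact
import Groth.Agent.AModX.Res
import Groth.Prelude.Def_UnitsSh

/-!
The units sequence of a first order thickening.
-/

universe u
set_option autoImplicit false
set_option backward.isDefEq.respectTransparency false
set_option backward.isDefEq.respectTransparency.types false
open CategoryTheory CategoryTheory.Limits AlgebraicGeometry TopologicalSpace Opposite

namespace Groth.Agent.GrLib8.PicH1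

open Groth.Agent.AModX

variable {X : Scheme.{u}} {I : X.IdealSheafData}

theorem sec_eq_of_locally {U : X.Opens} (a b : Γ(X, U))
    (h : ∀ x ∈ U, ∃ (V : X.Opens) (hV : V ≤ U), x ∈ V ∧ resR hV a = resR hV b) : a = b :=
  AModX.eq_of_locally (M := Coh.structureModule X) a b h

theorem mul_eq_zero_of_sq (hI : I * I = ⊥) {U : X.Opens} (s t : Γ(ClSub.idealMod I, U)) :
    OmegaSh.idealSect I U s * OmegaSh.idealSect I U t = 0 := by
  refine sec_eq_of_locally _ _ fun x hx => ?_
  obtain ⟨V, hV, hxV, hVU'⟩ := exists_isAffineOpen_mem_and_subset hx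
  have hVU : V ≤ U := hVU'
  refine ⟨V, hVU, hxV, ?_⟩
  rw [map_mul, map_zero]
  show X.presheaf.map (homOfLE hVU).op _ * X.presheaf.map (homOfLE hVU).op _ = 0
  rw [← OmegaLib.idealSect_map, ← OmegaLib.idealSect_map]
  have h1 : OmegaSh.idealSect I V ((ClSub.idealMod I).presheaf.map (homOfLE hVU).op s) *
      OmegaSh.idealSect I V ((ClSub.idealMod I).presheaf.map (homOfLE hVU).op t) ∈ (I * I).ideal ⟨V, hV⟩ := by
    rw [Scheme.IdealSheafData.ideal_mul]
    exact Ideal.mul_mem_mul (OmegaLib.idealSect_mem I ⟨V, hV⟩ _) (OmegaLib.idealSect_mem I ⟨V, hV⟩ _)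
  rw [hI] at h1
  simpa using h1

/-- The unit `1 + a` of a section `a` of the ideal. -/
noncomputable def oneAddUnit (hI : I * I = ⊥) (U : X.Opens) (s : Γ(ClSub.idealMod I, U)) : Γ(X, U)ˣ where
  val := 1 + OmegaSh.idealSect I U s
  inv := 1 - OmegaSh.idealSect I U s
  val_inv := by linear_combination -mul_eq_zero_of_sq hI s s
  inv_val := by linear_combination -mul_eq_zero_of_sq hI s s

theorem oneAddUnit_add (hI : I * I = ⊥) (U : X.Opens) (s t : Γ(ClSub.idealMod I, U)) :
    oneAddUnit hI U (s + t) = oneAddUnit hI U s * oneAddUnit hI U t := by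
  refine Units.ext ?_
  show 1 + OmegaSh.idealSect I U (s + t) = (1 + OmegaSh.idealSect I U s) * (1 + OmegaSh.idealSect I U t)
  rw [map_add]
  linear_combination -mul_eq_zero_of_sq hI s t

/-- `a ↦ 1 + a`. -/
noncomputable def oneAdd (hI : I * I = ⊥) : Coh.toAb (ClSub.idealMod I) ⟶ UnitsSh.unitsAb X :=
  ⟨{ app := fun U => AddCommGrpCat.ofHom (AddMonoidHom.mk'
      (fun s : Γ(ClSub.idealMod I, U.unop) =>
        (UnitsSh.sectEquiv X.sheaf U.unop).symm (Additive.ofMul (oneAddUnit hI U.unop s)))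
      fun s t => by rw [oneAddUnit_add, ofMul_mul, map_add])
     naturality := fun U V i => by
      ext s
      exact congrArg Additive.ofMul (Units.ext (by
        show 1 + OmegaSh.idealSect I V.unop ((ClSub.idealMod I).presheaf.map i s) =
          X.presheaf.map i (1 + OmegaSh.idealSect I U.unop s)
        rw [map_add, map_one, show i = (homOfLE i.unop.le).op from Subsingleton.elim _ _,
          OmegaLib.idealSect_map])) }⟩

/-- A thickening is surjective. -/
theorem surjective_subschemeι (hI : I * I = ⊥) : Function.Surjective I.subschemeι := by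
  intro x
  obtain ⟨V, hV, hxV, -⟩ := exists_isAffineOpen_mem_and_subset (U := (⊤ : X.Opens)) (x := x) trivial
  suffices h : x ∈ Set.range I.subschemeι from h
  rw [Scheme.IdealSheafData.range_subschemeι]
  have hs : (I.support : Set X) ∩ V = X.zeroLocus (U := V) (I.ideal ⟨V, hV⟩) ∩ V :=
    I.coe_support_inter ⟨V, hV⟩
  refine ((Set.ext_iff.1 hs x).2 ⟨?_, hxV⟩).1
  rw [Scheme.mem_zeroLocus_iff]
  intro f hf hx
  have h2 : f * f = 0 := by
    have h1 : f * f ∈ (I * I).ideal ⟨V, hV⟩ := by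
      rw [Scheme.IdealSheafData.ideal_mul]
      exact Ideal.mul_mem_mul hf hf
    rw [hI] at h1
    simpa using h1
  have hnil : IsNilpotent f := ⟨2, by rw [pow_two, h2]⟩
  exact (X.basicOpen_eq_bot_of_isNilpotent V f hnil).le hx

/-- Units lift on affine opens. -/
theorem exists_unit_lift (hI : I * I = ⊥) {V : X.Opens} (hV : IsAffineOpen V)
    (v : Γ(I.subscheme, I.subschemeι ⁻¹ᵁ V)ˣ) :
    ∃ u : Γ(X, V)ˣ, I.subschemeι.app V (u : Γ(X, V)) = (v : Γ(I.subscheme, I.subschemeι ⁻¹ᵁ V)) := by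
  obtain ⟨a, ha⟩ := I.subschemeι.app_surjective V hV (v : Γ(I.subscheme, I.subschemeι ⁻¹ᵁ V))
  obtain ⟨b, hb⟩ := I.subschemeι.app_surjective V hV ((v⁻¹ : Γ(I.subscheme, I.subschemeι ⁻¹ᵁ V)ˣ) : Γ(I.subscheme, I.subschemeι ⁻¹ᵁ V))
  obtain ⟨k, hk⟩ := OmegaLib.exists_idealSect_eq I V (1 - a * b) (by
    rw [map_sub, map_one, map_mul, ha, hb, Units.mul_inv, sub_self])
  have hsq := mul_eq_zero_of_sq hI k k
  rw [hk] at hsq
  refine ⟨⟨a, b * (2 - a * b), ?_, ?_⟩, ha⟩ <;> linear_combination -hsq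

/-- The units sequence. -/
noncomputable def unitsSC (hI : I * I = ⊥) : ShortComplex (CohTop.Ab X.toTopCat) :=
  ShortComplex.mk (oneAdd hI) (UnitsSh.comap I.subschemeι) (by
    ext U s
    exact congrArg Additive.ofMul (Units.ext (by
      show I.subschemeι.app U.unop (1 + OmegaSh.idealSect I U.unop s) = 1
      rw [map_add, map_one, OmegaLib.subschemeι_app_idealSect, add_zero])))

theorem unitsSC_f_injective (hI : I * I = ⊥) (U : X.Opens) :
    Function.Injective ((unitsSC hI).f.hom.app (op U)) := by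
  intro s t h
  refine OmegaLib.idealSect_injective I U (add_left_cancel (a := (1 : Γ(X, U))) ?_)
  exact congrArg Units.val (Additive.ofMul.injective h)

theorem unitsSC_exists_preimage (hI : I * I = ⊥) (U : X.Opens) (u : Γ(X, U)ˣ)
    (h : I.subschemeι.app U (u : Γ(X, U)) = 1) : ∃ s, oneAddUnit hI U s = u := by
  obtain ⟨k, hk⟩ := OmegaLib.exists_idealSect_eq I U ((u : Γ(X, U)) - 1) (by rw [map_sub, map_one, h, sub_self])
  exact ⟨k, Units.ext (by show 1 + OmegaSh.idealSect I U k = _; rw [hk]; ring)⟩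

theorem unitsSC_shortExact (hI : I * I = ⊥) : (unitsSC hI).ShortExact := by
  refine ShortComplex.ShortExact.mk' ?_ ?_ ?_
  · refine BigSiteLib.FppfDesc.exact_of_locally_boundary fun U x hx => ?_
    obtain ⟨s, hs⟩ := unitsSC_exists_preimage hI U (UnitsSh.unitOfSect x)
      (congrArg Units.val (Additive.ofMul.injective hx :))
    intro p hp
    refine ⟨U, 𝟙 U, ⟨s, ?_⟩, hp⟩
    show ((unitsSC hI).f.hom.app (op U)).hom s = ((UnitsSh.unitsAb X).obj.map (𝟙 U).op).hom x
    rw [op_id, CategoryTheory.Functor.map_id]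
    exact congrArg Additive.ofMul hs
  · haveI : ∀ U, Mono ((unitsSC hI).f.hom.app U) := fun U =>
      (AddCommGrpCat.mono_iff_injective _).2 (unitsSC_f_injective hI U.unop)
    haveI : Mono (unitsSC hI).f.hom := NatTrans.mono_of_mono_app _
    exact (sheafToPresheaf (Opens.grothendieckTopology X.toTopCat) AddCommGrpCat.{u}).mono_of_mono_map ‹_›
  · refine (Sheaf.isLocallySurjective_iff_epi' AddCommGrpCat.{u} (unitsSC hI).g).1 ?_
    refine ⟨fun {U} v p hp => ?_⟩
    obtain ⟨V, hV, hpV, hVU⟩ := exists_isAffineOpen_mem_and_subset hp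
    obtain ⟨u, hu⟩ := exists_unit_lift hI hV
      (Units.map ((I.subscheme.presheaf.map (homOfLE (I.subschemeι.preimage_mono hVU)).op).hom.toMonoidHom)
        (UnitsSh.unitOfSect (X := I.subscheme.toTopCat) (O := I.subscheme.presheaf) v))
    exact ⟨V, homOfLE hVU, ⟨(UnitsSh.sectEquiv X.sheaf V).symm (Additive.ofMul u),
      congrArg Additive.ofMul (Units.ext hu)⟩, hpV⟩

end Groth.Agent.GrLib8.PicH1
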