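import Groth.Agent.GrLib8.PicH1.Pull
import Groth.Agent.GrLib8.PicH1.Units
import Groth.Agent.GrLib8.PicH1.Conn

/-!
The exact sequence of Picard groups of a first order thickening.
-/

universe u
set_option autoImplicit false
set_option backward.isDefEq.respectTransparency false
set_option backward.isDefEq.respectTransparency.types false
open CategoryTheory CategoryTheory.Limits AlgebraicGeometry TopologicalSpace Opposite CategoryTheory.Abelian

namespace Groth.Agent.GrLib8.PicH1

open Groth.Agent.AModX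

/-- Chosen identifications of `Pic` with first cohomology, compatible with restriction. -/
theorem exists_compatible_isos (X : Scheme.{u}) (I : X.IdealSheafData) (hI : I * I = ⊥)
    [PicGrp.Law X] [PicGrp.Law I.subscheme] (hi : PicGrp.PullMul I.subschemeι) :
    ∃ (A : CohTop.H (UnitsSh.unitsAb X) 1 ≃+ Additive (PicLoc.PicSet X))
      (B : CohTop.H ((CohTop.push I.subschemeι.base).obj (UnitsSh.unitsAb I.subscheme)) 1 ≃+
        Additive (PicLoc.PicSet I.subscheme)),
      ∀ z, B (Sheaf.H.map (UnitsSh.comap I.subschemeι) 1 z) = (PicGrp.pullHom I.subschemeι hi).toAdditive (A z) := by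
  let i := I.subschemeι
  have hs : Function.Surjective i := surjective_subschemeι hI
  let P' := Classical.arbitrary (InjectivePresentation (UnitsSh.unitsAb X))
  let P := Classical.arbitrary (InjectivePresentation ((CohTop.push i.base).obj (UnitsSh.unitsAb I.subscheme)))
  haveI : Injective P'.shortComplex.X₂ := P'.injective
  haveI : Injective P.shortComplex.X₂ := P.injective
  have hE' := P'.shortExact_shortComplex
  have hE := P.shortExact_shortComplex
  haveI : Mono P'.shortComplex.f := hE'.mono_f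
  haveI : Epi P'.shortComplex.g := hE'.epi_g
  let θ : P'.shortComplex.X₂ ⟶ P.shortComplex.X₂ :=
    Injective.factorThru (UnitsSh.comap i ≫ P.shortComplex.f) P'.shortComplex.f
  have hθ : P'.shortComplex.f ≫ θ = UnitsSh.comap i ≫ P.shortComplex.f := Injective.comp_factorThru _ _
  have hθ0 : P'.shortComplex.f ≫ θ ≫ P.shortComplex.g = 0 := by
    rw [reassoc_of% hθ, P.shortComplex.zero, comp_zero]
  let τ : P'.shortComplex ⟶ P.shortComplex :=
    { τ₁ := UnitsSh.comap i
      τ₂ := θ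
      τ₃ := hE'.exact.desc (θ ≫ P.shortComplex.g) hθ0
      comm₁₂ := hθ.symm
      comm₂₃ := (hE'.exact.g_desc _ hθ0).symm }
  let PX := zarPres P'.shortComplex hE' (Iso.refl _)
  let PY := thickPres i hs P.shortComplex hE (Iso.refl _)
  obtain ⟨φX, hφX, hkX, hvX⟩ := exists_pic_hom PX
  obtain ⟨φY₀, hφY, hkY, hvY⟩ := exists_pic_hom PY
  let R := P.shortComplex.X₃.obj
  let φY : R.obj (op ⊤) →+ Additive (PicLoc.PicSet I.subscheme) :=
    φY₀.comp (rI R (le_top : jO i hs ⊤ ≤ ⊤))
  have hφY' : Function.Surjective φY := fun c => by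
    obtain ⟨q, hq⟩ := hφY c
    refine ⟨rI R (top_le_jO i hs) q, ?_⟩
    exact (congrArg φY₀ ((rI_rI R _ _ q).trans (rI_self R _ q))).trans hq
  have hkY' : ∀ y, φY y = 0 ↔ ∃ x, (P.shortComplex.g.hom.app (op ⊤)).hom x = y := by
    intro y
    refine (hkY _).trans ⟨?_, ?_⟩
    · rintro ⟨x, hx⟩
      refine ⟨rI P.shortComplex.X₂.obj (top_le_jO i hs) x, ?_⟩
      refine (ConcreteCategory.congr_hom (P.shortComplex.g.hom.naturality (homOfLE (top_le_jO i hs)).op) x).trans ?_
      exact (congrArg (rI R (top_le_jO i hs)) hx).trans ((rI_rI R _ _ y).trans (rI_self R _ y))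
    · rintro ⟨x, rfl⟩
      exact ⟨rI P.shortComplex.X₂.obj le_top x,
        ConcreteCategory.congr_hom (P.shortComplex.g.hom.naturality (homOfLE (le_top : jO i hs ⊤ ≤ ⊤)).op) x⟩
  haveI : Subsingleton (Sheaf.H P'.shortComplex.X₂ 1) :=
    subsingleton_of_forall_eq 0 fun x => Abelian.Ext.eq_zero_of_injective x
  haveI : Subsingleton (Sheaf.H P.shortComplex.X₂ 1) :=
    subsingleton_of_forall_eq 0 fun x => Abelian.Ext.eq_zero_of_injective x
  let hT := Limits.isTerminalTop (α := X.Opens)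
  obtain ⟨A, hA⟩ := exists_addEquiv_comm (conn hT hE') φX (conn_surjective hT hE') hφX
    fun y => (conn_eq_zero_iff hT hE' y).trans (hkX y).symm
  obtain ⟨B, hB⟩ := exists_addEquiv_comm (conn hT hE) φY (conn_surjective hT hE) hφY'
    fun y => (conn_eq_zero_iff hT hE y).trans (hkY' y).symm
  refine ⟨A, B, fun z => ?_⟩
  obtain ⟨q, rfl⟩ := conn_surjective hT hE' z
  obtain ⟨M, hM, hR⟩ := exists_rel_mod PX q
  refine Eq.trans ?_ (congrArg (PicGrp.pullHom I.subschemeι hi).toAdditive ((hA q).trans (hvX q M hM hR))).symm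
  refine (congrArg B (conn_natural hT hE' hE τ q).symm).trans ((hB _).trans ?_)
  refine (hvY _ _ (PicLoc.isInvertible_pullback i hM)
    (rel_pull i hs hE' (Iso.refl _) hE (Iso.refl _) τ (by simp [τ]) hR)).trans ?_
  exact congrArg Additive.ofMul (PicGrp.pullHom_cls i hi M hM).symm

section main

variable {X : Scheme.{u}}

/-- Degree zero cohomology of the units. -/
noncomputable def h0Units (X : Scheme.{u}) : CohTop.H (UnitsSh.unitsAb X) 0 ≃+ Additive Γ(X, ⊤)ˣ :=
  (Sheaf.H.equiv₀ (UnitsSh.unitsAb X) Limits.isTerminalTop).trans (UnitsSh.sectEquiv X.sheaf ⊤)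

/-- Degree zero cohomology of the pushed forward units. -/
noncomputable def h0PushUnits {Y : Scheme.{u}} (i : Y ⟶ X) :
    CohTop.H ((CohTop.push i.base).obj (UnitsSh.unitsAb Y)) 0 ≃+ Additive Γ(Y, ⊤)ˣ :=
  (Sheaf.H.equiv₀ ((CohTop.push i.base).obj (UnitsSh.unitsAb Y)) Limits.isTerminalTop).trans
    (UnitsSh.sectEquiv Y.sheaf (i ⁻¹ᵁ ⊤))

theorem sect_comap {Y : Scheme.{u}} (i : Y ⟶ X) (s : (UnitsSh.unitsAb X).obj.obj (op ⊤)) :
    UnitsSh.sectEquiv Y.sheaf (i ⁻¹ᵁ ⊤) (((UnitsSh.comap i).hom.app (op ⊤)).hom s) =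
      (Units.map i.appTop.hom.toMonoidHom).toAdditive (UnitsSh.sectEquiv X.sheaf ⊤ s) :=
  congrArg Additive.ofMul (UnitsSh.unitOfSect_comap_app i ⊤ s)

theorem h0_comap {Y : Scheme.{u}} (i : Y ⟶ X) (z : CohTop.H (UnitsSh.unitsAb X) 0) :
    h0PushUnits i (Sheaf.H.map (UnitsSh.comap i) 0 z) =
      (Units.map i.appTop.hom.toMonoidHom).toAdditive (h0Units X z) := by
  rw [h0PushUnits, h0Units, AddEquiv.trans_apply, AddEquiv.trans_apply]
  refine (congrArg (UnitsSh.sectEquiv Y.sheaf (i ⁻¹ᵁ ⊤))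
    (Sheaf.H.equiv₀_naturality (f := UnitsSh.comap i) (hT := Limits.isTerminalTop) z).symm).trans ?_
  exact sect_comap i _

set_option maxHeartbeats 1000000 in
/-- The exact sequence of a first order thickening. -/
theorem exists_exact (X : Scheme.{u}) (I : X.IdealSheafData) (hI : I * I = ⊥)
    [PicGrp.Law X] [PicGrp.Law I.subscheme] (hi : PicGrp.PullMul I.subschemeι) :
    ∃ (ε : Multiplicative (Coh.HH X (ClSub.idealMod I) 0) →* (Γ(X, ⊤))ˣ)
      (δ₀ : (Γ(I.subscheme, ⊤))ˣ →* Multiplicative (Coh.HH X (ClSub.idealMod I) 1))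
      (α : Multiplicative (Coh.HH X (ClSub.idealMod I) 1) →* PicLoc.PicSet X)
      (δ₁ : PicLoc.PicSet I.subscheme →* Multiplicative (Coh.HH X (ClSub.idealMod I) 2)),
      Function.Injective ε ∧
      (Units.map I.subschemeι.appTop.hom.toMonoidHom).ker = ε.range ∧
      δ₀.ker = (Units.map I.subschemeι.appTop.hom.toMonoidHom).range ∧
      α.ker = δ₀.range ∧
      (PicGrp.pullHom I.subschemeι hi).ker = α.range ∧
      δ₁.ker = (PicGrp.pullHom I.subschemeι hi).range := by
  obtain ⟨A, B, hAB⟩ := exists_compatible_isos X I hI hi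
  have hS := unitsSC_shortExact hI
  exact mul_exact (Sheaf.H.map (unitsSC hI).f 0) (Sheaf.H.map (unitsSC hI).g 0) (connH hS 0)
    (Sheaf.H.map (unitsSC hI).f 1) (Sheaf.H.map (unitsSC hI).g 1) (connH hS 1)
    (h0Units X) (h0PushUnits I.subschemeι) A B (Units.map I.subschemeι.appTop.hom.toMonoidHom)
    (PicGrp.pullHom I.subschemeι hi) (h0_comap I.subschemeι) hAB
    (map_f_zero_injective (Limits.isTerminalTop (α := X.Opens)) (unitsSC_f_injective hI ⊤))
    (map_g_eq_zero_iff hS 0) (connH_eq_zero_iff hS 0) (map_f_eq_zero_iff hS 0) (map_g_eq_zero_iff hS 1)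
    (connH_eq_zero_iff hS 1)

/-- The kernel of restriction when global functions lift. -/
theorem nonempty_ker_mulEquiv (X : Scheme.{u}) (I : X.IdealSheafData) (hI : I * I = ⊥)
    [PicGrp.Law X] [PicGrp.Law I.subscheme] (hi : PicGrp.PullMul I.subschemeι)
    (hsurj : Function.Surjective I.subschemeι.appTop.hom) :
    Nonempty ((PicGrp.pullHom I.subschemeι hi).ker ≃* Multiplicative (Coh.HH X (ClSub.idealMod I) 1)) := by
  obtain ⟨ε, δ₀, α, δ₁, -, -, h3, h4, h5, -⟩ := exists_exact X I hI hi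
  have htop : δ₀.ker = ⊤ := by
    rw [h3, MonoidHom.range_eq_top]
    intro v
    obtain ⟨a, ha⟩ := hsurj (v : Γ(I.subscheme, ⊤))
    obtain ⟨b, hb⟩ := hsurj ((v⁻¹ : Γ(I.subscheme, ⊤)ˣ) : Γ(I.subscheme, ⊤))
    have h0 : I.subschemeι.app ⊤ (1 - a * b) = 0 := by
      show I.subschemeι.appTop.hom (1 - a * b) = 0
      rw [map_sub, map_one, map_mul, ha, hb]
      exact sub_eq_zero.2 v.mul_inv.symm
    obtain ⟨k, hk⟩ := OmegaLib.exists_idealSect_eq I ⊤ (1 - a * b) h0
    have hsq := mul_eq_zero_of_sq hI k k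
    rw [hk] at hsq
    exact ⟨⟨a, b * (2 - a * b), by linear_combination -hsq, by linear_combination -hsq⟩, Units.ext ha⟩
  have hinj : Function.Injective α := by
    rw [← MonoidHom.ker_eq_bot_iff, h4, MonoidHom.range_eq_bot_iff]
    exact MonoidHom.ker_eq_top_iff.1 htop
  exact ⟨(MulEquiv.subgroupCongr h5).trans (MonoidHom.ofInjective hinj).symm⟩

end main

end Groth.Agent.GrLib8.PicH1
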