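import Groth.Agent.GrLib8.PicH1.Zariski
import Groth.Agent.InvX.Pullback

/-!
The Picard group of a homeomorphic closed subscheme through sheaves on the ambient space.
-/

universe u
set_option autoImplicit false
set_option backward.isDefEq.respectTransparency false
set_option backward.isDefEq.respectTransparency.types false
open CategoryTheory CategoryTheory.Limits AlgebraicGeometry TopologicalSpace Opposite

namespace Groth.Agent.GrLib8.PicH1

open Groth.Agent.AModX Groth.Agent.InvX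

variable {X Y : Scheme.{u}} (i : Y ⟶ X) [IsClosedImmersion i] (hi : Function.Surjective i)

/-- The open of `X` over an open of `Y`. -/
def jO (V : Y.Opens) : X.Opens :=
  ⟨i '' (V : Set Y), by
    have hb : Function.Bijective i := ⟨i.isClosedEmbedding.injective, hi⟩
    have := (i.isClosedEmbedding.isClosedMap _ V.isOpen.isClosed_compl).isOpen_compl
    rwa [Set.image_compl_eq hb, compl_compl] at this⟩

theorem mem_jO {V : Y.Opens} {y : Y} : i y ∈ jO i hi V ↔ y ∈ V := i.isClosedEmbedding.injective.mem_set_image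

theorem jO_preimage (V : Y.Opens) : i ⁻¹ᵁ jO i hi V = V := Opens.ext (Set.ext fun _ => mem_jO i hi)

theorem jO_mono {V W : Y.Opens} (h : V ≤ W) : jO i hi V ≤ jO i hi W := Set.image_mono h

theorem jO_preimage_le (M : X.Opens) : jO i hi (i ⁻¹ᵁ M) ≤ M := Set.image_preimage_subset _ _

theorem le_jO_preimage (M : X.Opens) : M ≤ jO i hi (i ⁻¹ᵁ M) := fun x hx => by
  obtain ⟨y, rfl⟩ := hi x
  exact (mem_jO i hi).2 hx

theorem inf_le_jO_inf (V W : Y.Opens) : jO i hi V ⊓ jO i hi W ≤ jO i hi (V ⊓ W) := fun x hx => by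
  obtain ⟨y, rfl⟩ := hi x
  exact (mem_jO i hi).2 ⟨(mem_jO i hi).1 hx.1, (mem_jO i hi).1 hx.2⟩

theorem jO_cover {ι : Type u} {V : ι → Y.Opens} (h : ∀ y, ∃ a, y ∈ V a) (x : X) : ∃ a, x ∈ jO i hi (V a) := by
  obtain ⟨y, rfl⟩ := hi x
  exact (h y).imp fun a ha => (mem_jO i hi).2 ha

theorem top_le_jO : (⊤ : X.Opens) ≤ jO i hi ⊤ := fun x _ => by
  obtain ⟨y, rfl⟩ := hi x
  exact (mem_jO i hi).2 trivial

/-- The image functor on opens. -/
def jF : Y.Opens ⥤ X.Opens where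
  obj := jO i hi
  map h := homOfLE (jO_mono i hi h.le)

variable (E : ShortComplex (CohTop.Ab X.toTopCat)) (hE : E.ShortExact)
  (e : (CohTop.push i.base).obj (UnitsSh.unitsAb Y) ≅ E.X₁)

/-- Units over the preimage of an open, in the middle term. -/
noncomputable def f0 (M : X.Opens) : Additive Γ(Y, i ⁻¹ᵁ M)ˣ →+ E.X₂.obj.obj (op M) :=
  ((e.hom ≫ E.f).hom.app (op M)).hom.comp (UnitsSh.sectEquiv Y.sheaf (i ⁻¹ᵁ M)).symm.toAddMonoidHom

theorem f0_res {N M : X.Opens} (h : N ≤ M) (a : Γ(Y, i ⁻¹ᵁ M)ˣ) :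
    rI E.X₂.obj h (f0 i E e M (Additive.ofMul a)) = f0 i E e N (Additive.ofMul (rU (i.preimage_mono h) a)) :=
  (ConcreteCategory.congr_hom ((e.hom ≫ E.f).hom.naturality (homOfLE h).op)
    ((UnitsSh.sectEquiv Y.sheaf (i ⁻¹ᵁ M)).symm (Additive.ofMul a))).symm

/-- The inclusion of the units of `Y`. -/
noncomputable def fY (V : Y.Opens) : Additive Γ(Y, V)ˣ →+ E.X₂.obj.obj (op (jO i hi V)) :=
  (f0 i E e (jO i hi V)).comp (rU (jO_preimage i hi V).le).toAdditive

theorem fY_eq (V : Y.Opens) (a : Γ(Y, V)ˣ) :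
    fY i hi E e V (Additive.ofMul a) = f0 i E e (jO i hi V) (Additive.ofMul (rU (jO_preimage i hi V).le a)) := rfl

include hE in
theorem fY_injective (V : Y.Opens) : Function.Injective (fY i hi E e V) := fun a b h => by
  haveI : Mono E.f := hE.mono_f
  have h1 : rU (jO_preimage i hi V).le (Additive.toMul a) = rU (jO_preimage i hi V).le (Additive.toMul b) :=
    Additive.ofMul.injective ((UnitsSh.sectEquiv Y.sheaf _).symm.injective
      (SiteBase.sheaf_app_injective (e.hom ≫ E.f) (jO i hi V) h))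
  have h' := congrArg (rU (jO_preimage i hi V).ge) h1
  rw [rU_rU, rU_rU, rU_self, rU_self] at h'
  exact Additive.toMul.injective h'

theorem exists_fY_eq (V : Y.Opens) (b : Γ(Y, i ⁻¹ᵁ jO i hi V)ˣ) :
    fY i hi E e V (Additive.ofMul (rU (jO_preimage i hi V).ge b)) = f0 i E e (jO i hi V) (Additive.ofMul b) := by
  rw [fY_eq, rU_rU, rU_self]

include hE in
/-- The presentation on `Y`. -/
noncomputable def thickPres [Injective E.X₂] : Pres.{u} Y where
  I := (jF i hi).op ⋙ E.X₂.obj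
  Q := (jF i hi).op ⋙ E.X₃.obj
  f V := fY i hi E e V
  f_res {W V} h a := (f0_res i E e (jO_mono i hi h) _).trans
    (congrArg (f0 i E e (jO i hi W)) (congrArg Additive.ofMul ((rU_rU _ _ a).trans (rU_rU _ _ a).symm)))
  g := Functor.whiskerLeft _ E.g.hom
  inj V := fY_injective i hi E hE e V
  exact V z := by
    refine (app_g_exact E hE (jO i hi V) z).trans ⟨?_, ?_⟩
    · rintro ⟨a, rfl⟩
      exact ⟨_, (exists_fY_eq i hi E e V (Additive.toMul (UnitsSh.sectEquiv Y.sheaf (i ⁻¹ᵁ jO i hi V)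
        ((e.inv.hom.app (op (jO i hi V))).hom a)))).trans
        (congrArg (fun φ : E.X₁ ⟶ E.X₂ => (φ.hom.app (op (jO i hi V))).hom a) (e.inv_hom_id_assoc E.f))⟩
    · rintro ⟨a, rfl⟩
      exact ⟨(e.hom.hom.app (op (jO i hi V))).hom
        ((UnitsSh.sectEquiv Y.sheaf _).symm ((rU (jO_preimage i hi V).le).toAdditive a)), rfl⟩
  lift q y := by
    haveI := hE.epi_g
    have := (Sheaf.isLocallySurjective_iff_epi' AddCommGrpCat.{u} E.g).2 inferInstance
    obtain ⟨M, k, ⟨s, hs⟩, hyM⟩ :=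
      (Presheaf.imageSieve_mem (Opens.grothendieckTopology X.toTopCat) E.g.hom q) (i y) (top_le_jO i hi trivial)
    refine ⟨i ⁻¹ᵁ M, hyM, rI E.X₂.obj (jO_preimage_le i hi M) s, ?_⟩
    refine ((ConcreteCategory.congr_hom (E.g.hom.naturality (homOfLE (jO_preimage_le i hi M)).op) s).trans
      (congrArg (rI E.X₃.obj (jO_preimage_le i hi M)) hs)).trans ?_
    rw [Subsingleton.elim k (homOfLE k.le)]
    exact rI_rI E.X₃.obj _ _ _
  glueI ι V hcov s h := by
    obtain ⟨t, ht⟩ := sheaf_glue E.X₂ ι (fun a => jO i hi (V a)) (jO_cover i hi hcov) s fun a b => by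
      have := congrArg (rI E.X₂.obj (inf_le_jO_inf i hi (V a) (V b))) (h a b)
      exact ((rI_rI E.X₂.obj _ _ _).symm.trans this).trans (rI_rI E.X₂.obj _ _ _)
    exact ⟨rI E.X₂.obj le_top t, fun a => (rI_rI E.X₂.obj _ _ _).trans (ht a)⟩
  glueQ ι V hcov s h := by
    obtain ⟨t, ht⟩ := sheaf_glue E.X₃ ι (fun a => jO i hi (V a)) (jO_cover i hi hcov) s fun a b => by
      have := congrArg (rI E.X₃.obj (inf_le_jO_inf i hi (V a) (V b))) (h a b)
      exact ((rI_rI E.X₃.obj _ _ _).symm.trans this).trans (rI_rI E.X₃.obj _ _ _)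
    exact ⟨rI E.X₃.obj le_top t, fun a => (rI_rI E.X₃.obj _ _ _).trans (ht a)⟩
  extQ ι V hcov s t h := sheaf_ext E.X₃ (fun a => jO i hi (V a)) (jO i hi ⊤) (fun x _ => jO_cover i hi hcov x) s t
    fun a => by
      have := congrArg (rI E.X₃.obj (inf_le_right : jO i hi ⊤ ⊓ jO i hi (V a) ≤ jO i hi (V a))) (h a)
      exact ((rI_rI E.X₃.obj _ _ _).symm.trans this).trans (rI_rI E.X₃.obj _ _ _)
  split ι V hcov d hd := by
    have hle : ∀ a b, i ⁻¹ᵁ (jO i hi (V a) ⊓ jO i hi (V b)) ≤ V a ⊓ V b := fun a b y hy =>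
      ⟨(mem_jO i hi).1 hy.1, (mem_jO i hi).1 hy.2⟩
    obtain ⟨r, hr⟩ := sheaf_split E.X₂ ι (fun a => jO i hi (V a)) (jO_cover i hi hcov)
      (fun a b => f0 i E e _ (Additive.ofMul (rU (hle a b) (d a b)))) fun a b l W ha hb hl => by
        rw [f0_res, f0_res, f0_res, rU_rU, rU_rU, rU_rU, ← map_add, ← ofMul_mul]
        congr 2
        have hm : ∀ {c : ι}, W ≤ jO i hi (V c) → i ⁻¹ᵁ W ≤ V c := fun h y hy => (mem_jO i hi).1 (h hy)
        exact hd a b l (i ⁻¹ᵁ W) (hm ha) (hm hb) (hm hl)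
    refine ⟨r, fun a b => ?_⟩
    have h1 := congrArg (rI E.X₂.obj (le_inf (jO_mono i hi inf_le_left) (jO_mono i hi inf_le_right) :
      jO i hi (V a ⊓ V b) ≤ jO i hi (V a) ⊓ jO i hi (V b))) (hr a b)
    rw [map_sub, rI_rI, rI_rI, f0_res, rU_rU] at h1
    exact h1

end Groth.Agent.GrLib8.PicH1
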