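import Groth.Agent.GrLib8.PicH1.Core
import Groth.Agent.Adeq2Lib.ZarCompare
import Groth.Agent.SiteBase.CechCmp
import Groth.Agent.SiteBase.AbSecExact
import Groth.Prelude.Def_UnitsSh

/-!
The presentation of the Zariski cohomology of units.
-/

universe u
set_option autoImplicit false
set_option backward.isDefEq.respectTransparency false
set_option backward.isDefEq.respectTransparency.types false
open CategoryTheory CategoryTheory.Limits AlgebraicGeometry TopologicalSpace Opposite

namespace Groth.Agent.GrLib8.PicH1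

open Groth.Agent.AModX

variable {X : Scheme.{u}}

/-- Sections of an abelian sheaf glue. -/
theorem sheaf_glue (F : CohTop.Ab X.toTopCat) (ι : Type u) (V : ι → X.Opens) (hcov : ∀ x, ∃ a, x ∈ V a)
    (s : ∀ a, F.obj.obj (op (V a)))
    (h : ∀ a b, rI F.obj (inf_le_left : V a ⊓ V b ≤ V a) (s a) = rI F.obj (inf_le_right : V a ⊓ V b ≤ V b) (s b)) :
    ∃ t : F.obj.obj (op ⊤), ∀ a, rI F.obj le_top t = s a := by
  obtain ⟨t, ht, -⟩ := TopCat.Sheaf.existsUnique_gluing' (C := AddCommGrpCat.{u}) (X := X.toTopCat) F V ⊤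
    (fun a => homOfLE le_top) (fun x _ => Opens.mem_iSup.2 (hcov x)) s h
  exact ⟨t, ht⟩

theorem sheaf_ext (F : CohTop.Ab X.toTopCat) {ι : Type u} (V : ι → X.Opens) (W : X.Opens)
    (hcov : ∀ x ∈ W, ∃ a, x ∈ V a) (s t : F.obj.obj (op W))
    (h : ∀ a, rI F.obj (inf_le_left : W ⊓ V a ≤ W) s = rI F.obj inf_le_left t) : s = t :=
  TopCat.Sheaf.eq_of_locally_eq' (C := AddCommGrpCat.{u}) (X := X.toTopCat) F (fun a => W ⊓ V a) W
    (fun a => homOfLE inf_le_left) (fun x hx => Opens.mem_iSup.2 ((hcov x hx).imp fun a ha => ⟨hx, ha⟩)) s t h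

section split

variable (I : (X.Opens)ᵒᵖ ⥤ AddCommGrpCat.{u}) {ι : Type u} (V : ι → X.Opens)

/-- Families on the pieces of a cover. -/
noncomputable def famPre : (X.Opens)ᵒᵖ ⥤ AddCommGrpCat.{u} where
  obj W := AddCommGrpCat.of (∀ a, I.obj (op (W.unop ⊓ V a)))
  map {W W'} i := AddCommGrpCat.ofHom
    (AddMonoidHom.mk' (fun F a => rI I (inf_le_inf_right (V a) i.unop.le) (F a))
      fun F F' => funext fun a => map_add _ _ _)
  map_id W := by
    ext F a
    exact rI_self I _ _
  map_comp i j := by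
    ext F a
    exact (rI_rI I _ _ _).symm

/-- Restriction to the pieces. -/
noncomputable def famUnit : I ⟶ famPre I V where
  app W := AddCommGrpCat.ofHom (AddMonoidHom.mk' (fun s a => rI I inf_le_left s)
    fun s s' => funext fun a => map_add _ _ _)
  naturality W W' i := by
    ext s
    funext a
    show rI I (inf_le_left : W'.unop ⊓ V a ≤ W'.unop) (rI I i.unop.le s) = rI I _ (rI I inf_le_left s)
    rw [rI_rI, rI_rI]

end split

/-- A Čech cocycle in an injective sheaf is a coboundary. -/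
theorem sheaf_split (F : CohTop.Ab X.toTopCat) [Injective F] (ι : Type u) (V : ι → X.Opens)
    (hcov : ∀ x, ∃ a, x ∈ V a) (d : ∀ a b, F.obj.obj (op (V a ⊓ V b)))
    (hd : ∀ a b l (W : X.Opens) (ha : W ≤ V a) (hb : W ≤ V b) (hl : W ≤ V l),
      rI F.obj (le_inf ha hl) (d a l) = rI F.obj (le_inf hb hl) (d b l) + rI F.obj (le_inf ha hb) (d a b)) :
    ∃ r : ∀ a, F.obj.obj (op (V a)), ∀ a b, rI F.obj inf_le_left (r a) - rI F.obj inf_le_right (r b) = d a b := by
  haveI : Injective F.obj :=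
    Injective.injective_of_adjoint (sheafificationAdjunction (Opens.grothendieckTopology X.toTopCat) AddCommGrpCat.{u}) F
  haveI : ∀ W, Mono ((famUnit F.obj V).app W) := fun W =>
    (AddCommGrpCat.mono_iff_injective _).2 fun s t h =>
      sheaf_ext F V W.unop (fun x _ => hcov x) s t fun a => congrFun h a
  haveI : Mono (famUnit F.obj V) := NatTrans.mono_of_mono_app _
  let r := Injective.factorThru (𝟙 F.obj) (famUnit F.obj V)
  have hr : famUnit F.obj V ≫ r = 𝟙 F.obj := Injective.comp_factorThru _ _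
  refine ⟨fun a => (r.app (op (V a))).hom (fun l => d a l), fun a b => ?_⟩
  let W := V a ⊓ V b
  have hnat : ∀ (c : ι) (h : W ≤ V c), rI F.obj h ((r.app (op (V c))).hom (fun l => d c l)) =
      (r.app (op W)).hom (fun l => rI F.obj (inf_le_inf_right (V l) h) (d c l)) := fun c h =>
    (ConcreteCategory.congr_hom (r.naturality (homOfLE h).op) (fun l => d c l)).symm
  rw [hnat a inf_le_left, hnat b inf_le_right, ← map_sub]
  have he : ((fun l => rI F.obj (inf_le_inf_right (V l) (inf_le_left : W ≤ V a)) (d a l)) -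
      fun l => rI F.obj (inf_le_inf_right (V l) (inf_le_right : W ≤ V b)) (d b l) : (famPre F.obj V).obj (op W)) =
      ((famUnit F.obj V).app (op W)).hom (d a b) := by
    funext l
    show rI F.obj _ (d a l) - rI F.obj _ (d b l) = rI F.obj (inf_le_left : W ⊓ V l ≤ W) (d a b)
    rw [hd a b l (W ⊓ V l) (inf_le_left.trans inf_le_left) (inf_le_left.trans inf_le_right) inf_le_right,
      add_sub_cancel_left]
  refine (congrArg (r.app (op W)).hom he).trans ?_
  exact ConcreteCategory.congr_hom (congr_app hr (op W)) (d a b)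

section

variable (E : ShortComplex (CohTop.Ab X.toTopCat)) (hE : E.ShortExact) (e : UnitsSh.unitsAb X ≅ E.X₁)

/-- A unit on an open as a section of the sheaf of units. -/
noncomputable def toUnitsAb (V : X.Opens) : Additive Γ(X, V)ˣ →+ (UnitsSh.unitsAb X).obj.obj (op V) :=
  (UnitsSh.sectEquiv X.sheaf V).symm.toAddMonoidHom

include hE in
theorem app_g_exact (V : X.Opens) (z : E.X₂.obj.obj (op V)) :
    (E.g.hom.app (op V)).hom z = 0 ↔ ∃ a, (E.f.hom.app (op V)).hom a = z :=
  ⟨fun h => SiteBase.sections_exact hE V z h, by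
    rintro ⟨a, rfl⟩
    exact ConcreteCategory.congr_hom (NatTrans.congr_app (congrArg (fun φ : E.X₁ ⟶ E.X₃ => φ.hom) E.zero) _) a⟩

include hE in
/-- The presentation attached to an extension of the units by an injective. -/
noncomputable def zarPres [Injective E.X₂] : Pres.{u} X where
  I := E.X₂.obj
  Q := E.X₃.obj
  f V := ((e.hom ≫ E.f).hom.app (op V)).hom.comp (toUnitsAb V)
  f_res {W V} h a := (ConcreteCategory.congr_hom ((e.hom ≫ E.f).hom.naturality (homOfLE h).op)
    (toUnitsAb V (Additive.ofMul a))).symm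
  g := E.g.hom
  inj V := by
    refine Function.Injective.comp ?_ (UnitsSh.sectEquiv X.sheaf V).symm.injective
    haveI : Mono E.f := hE.mono_f
    exact SiteBase.sheaf_app_injective (e.hom ≫ E.f) V
  exact V z := by
    refine (app_g_exact E hE V z).trans ⟨?_, ?_⟩
    · rintro ⟨a, rfl⟩
      refine ⟨UnitsSh.sectEquiv X.sheaf V ((e.inv.hom.app (op V)).hom a), ?_⟩
      show ((e.hom ≫ E.f).hom.app (op V)).hom ((e.inv.hom.app (op V)).hom a) = _
      exact congrArg (fun φ : E.X₁ ⟶ E.X₂ => (φ.hom.app (op V)).hom a) (e.inv_hom_id_assoc E.f)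
    · rintro ⟨a, rfl⟩
      exact ⟨(e.hom.hom.app (op V)).hom (toUnitsAb V a), rfl⟩
  lift q x := by
    haveI := hE.epi_g
    have := (Sheaf.isLocallySurjective_iff_epi' AddCommGrpCat.{u} E.g).2 inferInstance
    obtain ⟨M, i, ⟨s, hs⟩, hxM⟩ :=
      (Presheaf.imageSieve_mem (Opens.grothendieckTopology X.toTopCat) E.g.hom q) x trivial
    refine ⟨M, hxM, s, hs.trans ?_⟩
    rw [Subsingleton.elim i (homOfLE le_top)]
  glueI := sheaf_glue E.X₂
  glueQ := sheaf_glue E.X₃
  extQ ι V hcov s t h := sheaf_ext E.X₃ V ⊤ (fun x _ => hcov x) s t fun a => by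
    have := congrArg (rI E.X₃.obj (inf_le_right : (⊤ : X.Opens) ⊓ V a ≤ V a)) (h a)
    rwa [rI_rI, rI_rI] at this
  split ι V hcov d hd := sheaf_split E.X₂ ι V hcov
    (fun a b => ((e.hom ≫ E.f).hom.app (op (V a ⊓ V b))).hom (toUnitsAb _ (Additive.ofMul (d a b))))
    fun a b l W ha hb hl => by
      have key : ∀ (c c' : ι) (h : W ≤ V c ⊓ V c'), rI E.X₂.obj h
          (((e.hom ≫ E.f).hom.app (op (V c ⊓ V c'))).hom (toUnitsAb _ (Additive.ofMul (d c c')))) =
          ((e.hom ≫ E.f).hom.app (op W)).hom (toUnitsAb W (Additive.ofMul (rU h (d c c')))) := fun c c' h =>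
        (ConcreteCategory.congr_hom ((e.hom ≫ E.f).hom.naturality (homOfLE h).op)
          (toUnitsAb _ (Additive.ofMul (d c c')))).symm
      rw [key, key, key, hd a b l W ha hb hl, ofMul_mul, map_add, map_add]

end

/-- `Pic(X) ≅ H¹(X, 𝒪^×)`. -/
theorem nonempty_pic_addEquiv_h1 (X : Scheme.{u}) [PicGrp.Law X] :
    Nonempty (Additive (PicLoc.PicSet X) ≃+ CohTop.H (UnitsSh.unitsAb X) 1) := by
  let P := Classical.arbitrary (InjectivePresentation (UnitsSh.unitsAb X))
  haveI : Injective P.shortComplex.X₂ := P.injective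
  haveI : Subsingleton (Sheaf.H P.shortComplex.X₂ 1) :=
    subsingleton_of_forall_eq 0 fun x => Abelian.Ext.eq_zero_of_injective x
  obtain ⟨φ, hφ, hk, -⟩ := exists_pic_hom (zarPres P.shortComplex P.shortExact_shortComplex (Iso.refl _))
  obtain ⟨ψ, hψ, hk'⟩ := Adeq2Lib.ZarCmp.h1_pres (Limits.isTerminalTop (α := X.Opens)) P.shortComplex
    P.shortExact_shortComplex
  exact SiteBase.nonempty_addEquiv_of_surjective' φ ψ hφ hψ fun y => (hk y).trans (hk' y).symm

end Groth.Agent.GrLib8.PicH1
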